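import Groth.Agent.ZBPushBlow.Glob
import Mathlib.AlgebraicGeometry.Morphisms.Finite

/-!
# A finite birational morphism which is an isomorphism off a Cartier divisor is a blowing up
-/

set_option autoImplicit false
universe u

open CategoryTheory CategoryTheory.Limits AlgebraicGeometry TopologicalSpace

namespace Groth.Agent.ZBFinBir

variable {X Y : Scheme.{u}} [IsReduced X] (f : X ⟶ Y) (L : Y.IdealSheafData)

theorem inf_compl_eq_basicOpen (U : Y.affineOpens) (d : Γ(Y, U.1)) (hU : L.ideal U = Ideal.span {d}) :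
    U.1 ⊓ L.support.compl = Y.basicOpen d := by
  ext y
  refine ⟨fun ⟨hyU, hy⟩ => ?_, fun hy => ⟨Y.basicOpen_le d hy, fun hs => ?_⟩⟩
  · by_contra h
    refine hy ((L.mem_support_iff_of_mem (U := U) hyU).mpr ?_)
    rw [hU, Scheme.zeroLocus_span, Scheme.mem_zeroLocus_iff]
    rintro _ rfl
    exact h
  · have := (L.mem_support_iff_of_mem (U := U) (Y.basicOpen_le d hy)).mp hs
    rw [hU, Scheme.zeroLocus_span, Scheme.mem_zeroLocus_iff] at this
    exact this d rfl hy

variable [IsFinite f] (hiso : IsIso (f ∣_ L.support.compl))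
  (hdense : Dense (f.base ⁻¹' ((L.support : Set Y)ᶜ)))

include hdense in
theorem app_mem_nonZeroDivisors (U : Y.affineOpens) (d : Γ(Y, U.1))
    (hU : L.ideal U = Ideal.span {d}) :
    (f.app U.1).hom d ∈ nonZeroDivisors Γ(X, f ⁻¹ᵁ U.1) := by
  refine mem_nonZeroDivisors_iff_right.mpr fun b hb => (basicOpen_eq_bot_iff b).mp ?_
  have h0 : X.basicOpen b ⊓ X.basicOpen ((f.app U.1).hom d) = ⊥ := by
    rw [← Scheme.basicOpen_mul, hb, Scheme.basicOpen_zero]
  by_contra hne
  obtain ⟨z, hz, hz'⟩ := hdense.inter_open_nonempty _ (X.basicOpen b).2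
    (Set.nonempty_iff_ne_empty.mpr fun h => hne (Opens.ext h))
  have hzd : f z ∈ U.1 ⊓ L.support.compl := ⟨X.basicOpen_le b hz, hz'⟩
  rw [inf_compl_eq_basicOpen L U d hU] at hzd
  have hz2 : z ∈ X.basicOpen ((f.app U.1).hom d) := (Scheme.preimage_basicOpen f d).le hzd
  exact h0.le ⟨hz, hz2⟩

include hiso in
theorem app_basicOpen_bijective (U : Y.affineOpens) (d : Γ(Y, U.1))
    (hU : L.ideal U = Ideal.span {d}) :
    Function.Bijective (f.app (Y.basicOpen d)).hom := by
  have hle : Y.basicOpen d ≤ L.support.compl :=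
    (inf_compl_eq_basicOpen L U d hU).ge.trans inf_le_right
  let O : Y.Opens := L.support.compl
  have h2 : IsIso ((f ∣_ O).app (O.ι ⁻¹ᵁ Y.basicOpen d)) := inferInstance
  rw [morphismRestrict_app] at h2
  have h3 : IsIso (f.app (O.ι ''ᵁ (O.ι ⁻¹ᵁ Y.basicOpen d))) :=
    @IsIso.of_isIso_comp_right _ _ _ _ _ _ _
      (X.presheaf.mapIso (eqToIso (image_morphismRestrict_preimage f O _)).op).isIso_hom h2
  have key : ∀ W : Y.Opens, W = Y.basicOpen d → IsIso (f.app W) → IsIso (f.app (Y.basicOpen d)) := by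
    rintro W rfl hW
    exact hW
  have := key _ (by
    rw [Scheme.Hom.image_preimage_eq_opensRange_inf, Scheme.Opens.opensRange_ι]
    exact inf_eq_right.mpr hle) h3
  exact ConcreteCategory.bijective_of_isIso (f.app (Y.basicOpen d))

include hiso in
theorem app_injective (U : Y.affineOpens) (d : Γ(Y, U.1)) (hd : d ∈ nonZeroDivisors Γ(Y, U.1))
    (hU : L.ideal U = Ideal.span {d}) : Function.Injective (f.app U.1).hom := by
  refine (injective_iff_map_eq_zero _).mpr fun x hx => ?_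
  have hle := Y.basicOpen_le d
  have hloc := U.2.isLocalization_basicOpen d
  have h1 : (f.app (Y.basicOpen d)).hom ((Y.presheaf.map (homOfLE hle).op).hom x) = 0 := by
    rw [← RingHom.comp_apply, ← CommRingCat.hom_comp, f.naturality, CommRingCat.hom_comp,
      RingHom.comp_apply, hx, map_zero]
  have h2 : algebraMap Γ(Y, U.1) Γ(Y, Y.basicOpen d) x = 0 :=
    (app_basicOpen_bijective f L hiso U d hU).1 (h1.trans (map_zero _).symm)
  obtain ⟨⟨_, k, rfl⟩, hk⟩ := (IsLocalization.map_eq_zero_iff (Submonoid.powers d) _ x).mp h2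
  exact (pow_mem hd k).1 x hk

include hiso hdense in
theorem exists_pow_mul_mem_range (U : Y.affineOpens) (d : Γ(Y, U.1))
    (hU : L.ideal U = Ideal.span {d}) :
    ∃ n : ℕ, ∀ b, (f.app U.1).hom d ^ n * b ∈ (f.app U.1).hom.range := by
  classical
  set φ := (f.app U.1).hom with hφdef
  have hle : f ⁻¹ᵁ Y.basicOpen d ≤ f ⁻¹ᵁ U.1 := f.preimage_mono (Y.basicOpen_le d)
  let res := (X.presheaf.map (homOfLE hle).op).hom
  have hnat : ∀ a, res (φ a) = (f.app (Y.basicOpen d)).hom
      ((Y.presheaf.map (homOfLE (Y.basicOpen_le d)).op).hom a) := fun a => by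
    rw [← RingHom.comp_apply (f.app (Y.basicOpen d)).hom, ← CommRingCat.hom_comp, f.naturality]
    rfl
  have hres : Function.Injective res := by
    refine (injective_iff_map_eq_zero _).mpr fun b hb => ?_
    have hloc := (U.2.preimage f).isLocalization_basicOpen (φ d)
    have e : f ⁻¹ᵁ Y.basicOpen d = X.basicOpen (φ d) := Scheme.preimage_basicOpen f d
    have h2 : (X.presheaf.map (homOfLE (X.basicOpen_le (φ d))).op).hom b = 0 := by
      have h3 := congrArg (X.presheaf.map (homOfLE e.ge).op).hom hb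
      rw [map_zero] at h3
      rw [← h3]
      show _ = (X.presheaf.map _).hom ((X.presheaf.map _).hom b)
      rw [← RingHom.comp_apply, ← CommRingCat.hom_comp, ← Functor.map_comp]
      rfl
    obtain ⟨⟨_, k, rfl⟩, hk⟩ :=
      (IsLocalization.map_eq_zero_iff (Submonoid.powers (φ d)) _ b).mp h2
    exact (pow_mem (app_mem_nonZeroDivisors f L hdense U d hU) k).1 b hk
  have hloc := U.2.isLocalization_basicOpen d
  have key : ∀ b, ∃ k : ℕ, φ d ^ k * b ∈ φ.range := fun b => by
    obtain ⟨q, hq⟩ := (app_basicOpen_bijective f L hiso U d hU).2 (res b)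
    obtain ⟨⟨a, ⟨_, k, rfl⟩⟩, ha⟩ := IsLocalization.surj (Submonoid.powers d) q
    refine ⟨k, a, hres ?_⟩
    have h2 := congrArg (f.app (Y.basicOpen d)).hom ha
    rw [map_mul, hq] at h2
    rw [hnat, map_mul, ← map_pow, hnat]
    exact h2.symm.trans (mul_comm _ _)
  have hfin : φ.Finite := IsFinite.finite_app (f := f) U.1 U.2
  letI := φ.toAlgebra
  haveI : Module.Finite Γ(Y, U.1) Γ(X, f ⁻¹ᵁ U.1) := hfin
  obtain ⟨s, hs⟩ := (Module.Finite.fg_top : (⊤ : Submodule Γ(Y, U.1) Γ(X, f ⁻¹ᵁ U.1)).FG)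
  choose k hk using key
  refine ⟨s.sup k, fun b => ?_⟩
  have hb : b ∈ Submodule.span Γ(Y, U.1) (s : Set Γ(X, f ⁻¹ᵁ U.1)) := hs ▸ Submodule.mem_top
  induction hb using Submodule.span_induction with
  | mem b hb =>
    rw [← Nat.sub_add_cancel (Finset.le_sup (f := k) hb), pow_add, mul_assoc]
    exact mul_mem (pow_mem (⟨d, rfl⟩ : φ d ∈ φ.range) _) (hk b)
  | zero => simp
  | add b b' _ _ h h' => rw [mul_add]; exact add_mem h h'
  | smul r b _ h =>
    rw [Algebra.smul_def, mul_left_comm]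
    exact mul_mem ⟨r, rfl⟩ h

include hiso hdense in
theorem isBlowUp_over (U : Y.affineOpens) (d : Γ(Y, U.1)) (hd : d ∈ nonZeroDivisors Γ(Y, U.1))
    (hU : L.ideal U = Ideal.span {d}) (n : ℕ)
    (hn : ∀ b, (f.app U.1).hom d ^ n * b ∈ (f.app U.1).hom.range) :
    BlowUp.IsBlowUp (Spec.map (f.app U.1))
        ((((L ^ (n + 1)).comap f).map f).comap U.2.fromSpec) ∧
      ∀ y ∈ U.1, y ∈ (((L ^ (n + 1)).comap f).map f).support ↔ y ∈ L.support := by
  set I := ((L ^ (n + 1)).comap f).map f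
  set φ := (f.app U.1).hom with hφdef
  have hI : I.ideal U = (Ideal.span {φ d ^ (n + 1)}).comap φ := by
    rw [show I.ideal U = _ from Scheme.IdealSheafData.ideal_map_of_isAffineHom _ f U,
      ModPairLib.ideal_comap _ f U ⟨f ⁻¹ᵁ U.1, U.2.preimage f⟩ le_rfl,
      Scheme.IdealSheafData.ideal_pow, Pi.pow_apply, hU, Ideal.span_singleton_pow, Ideal.map_span,
      Set.image_singleton, map_pow, ← Scheme.Hom.app_eq_appLE]
  have hmem : ∀ {z}, z ∈ I.ideal U ↔ ∃ b, φ z = b * φ d ^ (n + 1) := fun {z} => by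
    rw [hI, Ideal.mem_comap, Ideal.mem_span_singleton']
    exact ⟨fun ⟨b, h⟩ => ⟨b, h.symm⟩, fun ⟨b, h⟩ => ⟨b, h.symm⟩⟩
  have hsucc : ∀ b, ∃ a, φ a = b * φ d ^ (n + 1) := fun b => by
    obtain ⟨a, ha⟩ := hn (b * φ d)
    exact ⟨a, ha.trans (by ring)⟩
  have hinj := app_injective f L hiso U d hd hU
  refine ⟨?_, fun y hy => ?_⟩
  · rw [BlowUpLib.comap_fromSpec]
    refine ZBPushBlow.isBlowUp_affine φ (I.ideal U) (fun x z hz => ?_) hinj ?_
    · obtain ⟨b, hb⟩ := hmem.mp hz
      obtain ⟨a, ha⟩ := hsucc (x * b)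
      exact ⟨a, hmem.mpr ⟨_, ha⟩, by rw [ha, hb, mul_assoc]⟩
    · have hmap : (I.ideal U).map φ = Ideal.span {φ d ^ (n + 1)} := by
        refine le_antisymm (hI ▸ Ideal.map_comap_le) ((Ideal.span_singleton_le_iff_mem _).mpr ?_)
        rw [← map_pow]
        exact Ideal.mem_map_of_mem _ (hmem.mpr ⟨1, by rw [one_mul, map_pow]⟩)
      rw [hmap]
      set ε := (Scheme.ΓSpecIso (CommRingCat.of Γ(X, f ⁻¹ᵁ U.1))).inv.hom
      intro z
      refine ⟨⟨⊤, isAffineOpen_top _⟩, trivial, ε (φ d ^ (n + 1)), ?_, ?_⟩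
      · exact ModPairLib.mem_nonZeroDivisors_map ε (ConcreteCategory.bijective_of_isIso _)
          (pow_mem (app_mem_nonZeroDivisors f L hdense U d hU) _)
      · rw [BlowUpLib.centre_top, Ideal.map_span, Set.image_singleton]
  · rw [I.mem_support_iff_of_mem (U := U) hy, L.mem_support_iff_of_mem (U := U) hy, hU,
      Scheme.zeroLocus_span, Scheme.mem_zeroLocus_iff, Scheme.mem_zeroLocus_iff]
    refine ⟨fun h => ?_, fun h x hx => ?_⟩
    · rintro _ rfl
      have := h _ (hmem.mpr ⟨1, by rw [one_mul, map_pow]⟩)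
      rwa [Scheme.basicOpen_pow _ _ n.succ_pos] at this
    · obtain ⟨b, hb⟩ := hmem.mp hx
      obtain ⟨a, ha⟩ := hn (φ d * b ^ (n + 1))
      have e : x ^ (n + 1) = d ^ (n * n + n) * a := hinj (by
        rw [map_pow, map_mul, map_pow, ha, hb]; ring)
      intro hyx
      rw [← Scheme.basicOpen_pow _ (x : Γ(Y, U.1)) n.succ_pos, e, Scheme.basicOpen_mul] at hyx
      rcases Nat.eq_zero_or_pos (n * n + n) with h0 | h0
      · have hn0 : n = 0 := by omega
        subst hn0
        obtain ⟨a', ha'⟩ := hn b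
        have e' : x = d * a' := hinj (by rw [map_mul, ha', hb]; ring)
        have : y ∈ Y.basicOpen x := by
          rw [← Scheme.basicOpen_pow _ (x : Γ(Y, U.1)) (Nat.succ_pos 0), e, Scheme.basicOpen_mul]
          exact hyx
        rw [e', Scheme.basicOpen_mul] at this
        exact h d rfl this.1
      · rw [Scheme.basicOpen_pow _ _ h0] at hyx
        exact h d rfl hyx.1

include hiso hdense in
theorem exists_isBlowUp [CompactSpace Y] (hL : BlowUp.IsEffCartierIdeal L) :
    ∃ I : Y.IdealSheafData, I.support = L.support ∧ BlowUp.IsBlowUp f I := by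
  classical
  choose U hyU d hd hU using hL
  obtain ⟨s, hs⟩ := isCompact_univ.elim_finite_subcover (fun y => ((U y).1 : Set Y))
    (fun y => (U y).1.2) fun y _ => Set.mem_iUnion.mpr ⟨y, hyU y⟩
  choose k hk using fun y => exists_pow_mul_mem_range f L hiso hdense (U y) (d y) (hU y)
  set n := s.sup k
  have hn : ∀ y ∈ s, ∀ b, (f.app (U y).1).hom (d y) ^ n * b ∈ (f.app (U y).1).hom.range :=
    fun y hy b => by
      show _ ^ s.sup k * b ∈ _
      rw [← Nat.sub_add_cancel (Finset.le_sup (f := k) hy), pow_add, mul_assoc]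
      exact mul_mem (pow_mem (show _ ∈ (f.app (U y).1).hom.range from ⟨d y, rfl⟩) _) (hk y b)
  have hloc := fun y : s =>
    isBlowUp_over f L hiso hdense (U y) (d y) (hd y) (hU y) n (hn y.1 y.2)
  refine ⟨((L ^ (n + 1)).comap f).map f, ?_, ?_⟩
  · refine TopologicalSpace.Closeds.ext (Set.ext fun y => ?_)
    obtain ⟨z, hz, hyz⟩ := Set.mem_iUnion₂.mp (hs (Set.mem_univ y))
    exact (hloc ⟨z, hz⟩).2 y hyz
  · refine BlowUpLib.isBlowUp_of_local (fun y : s => (U y).2.fromSpec) (fun y => ?_)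
      (fun y : s => Spec.map (f.app (U y).1)) (fun y : s => ((U y).2.preimage f).fromSpec)
      (fun y => ?_) fun y => (hloc y).1
    · obtain ⟨z, hz, hyz⟩ := Set.mem_iUnion₂.mp (hs (Set.mem_univ y))
      obtain ⟨v, hv⟩ := (U z).2.range_fromSpec.ge hyz
      exact ⟨⟨z, hz⟩, v, hv⟩
    · rw [Scheme.Hom.app_eq_appLE]
      exact (RingPO.isPullback_fromSpec f (U y).2).flip

end Groth.Agent.ZBFinBir
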